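import Cfsg.Agent.Lib.Sz8.Field
import Cfsg.Agent.Lib.ChevClassical.D4Data
import Cfsg.Agent.Lib.Trial3D4.Data

/-!
# Packed `8 × 8` matrices over the field with eight elements
-/

set_option autoImplicit false
set_option maxRecDepth 100000

namespace Cfsg.Agent.Lib.Trial3D4

open Cfsg.Agent.Lib.Sz8 Cfsg.Agent.Lib.ChevClassical

/-- The indices of the natural module. -/
abbrev I : Type := Fin 4 ⊕ Fin 4

/-- An entry of a packed matrix. -/
def ent (A i j : ℕ) : ℕ := Nat.mod (Nat.shiftRight A (Nat.mul 3 (Nat.add (Nat.mul 8 i) j))) 8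

/-- The matrix of a code. -/
def toMat (A : ℕ) : Matrix I I K8 := Matrix.of fun a b => kE (ent A (D4.rk a) (D4.rk b))

def add8 (a b : ℕ) : ℕ := Nat.xor (a % 8) (b % 8)

def mul8 (a b : ℕ) : ℕ := mulN (a % 8) (b % 8)

theorem kE_add (a b : ℕ) : kE a + kE b = kE (add8 a b) := rfl

theorem kE_mul (a b : ℕ) : kE a * kE b = kE (mul8 a b) := rfl

theorem kE_congr {a b : ℕ} (h : a % 8 = b % 8) : kE a = kE b := by
  unfold kE
  simp only [h]

/-- An entry of a product. -/
def dot (A B i j : ℕ) : ℕ :=
  add8 (add8 (add8 (add8 (mul8 (ent A i 0) (ent B 0 j)) (mul8 (ent A i 1) (ent B 1 j)))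
      (mul8 (ent A i 2) (ent B 2 j))) (mul8 (ent A i 3) (ent B 3 j)))
    (add8 (add8 (add8 (mul8 (ent A i 4) (ent B 4 j)) (mul8 (ent A i 5) (ent B 5 j)))
      (mul8 (ent A i 6) (ent B 6 j))) (mul8 (ent A i 7) (ent B 7 j)))

def idx8 : List ℕ := [0, 1, 2, 3, 4, 5, 6, 7]

/-- Product check. -/
def ch (A B C : ℕ) : Bool :=
  idx8.all fun i => idx8.all fun j => Nat.beq (ent C i j % 8) (dot A B i j % 8)

theorem rk_mem (a : I) : D4.rk a ∈ idx8 := by revert a; decide

theorem toMat_mul {A B C : ℕ} (h : ch A B C = true) : toMat A * toMat B = toMat C := by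
  funext a b
  rw [Matrix.mul_apply, Fintype.sum_sum_type, Fin.sum_univ_four, Fin.sum_univ_four]
  simp only [ch, List.all_eq_true] at h
  have h' : ent C (D4.rk a) (D4.rk b) % 8 = dot A B (D4.rk a) (D4.rk b) % 8 :=
    Nat.eq_of_beq_eq_true (h _ (rk_mem a) _ (rk_mem b))
  simp only [toMat, Matrix.of_apply, kE_mul, kE_add]
  exact (kE_congr h').symm

/-- An entry of a sum. -/
def sumE (l : List ℕ) (i j : ℕ) : ℕ :=
  match l with
  | [] => 0
  | A :: l => add8 (ent A i j) (sumE l i j)

theorem toMat_sum (l : List ℕ) (a b : I) :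
    (l.map toMat).sum a b = kE (sumE l (D4.rk a) (D4.rk b)) := by
  induction l with
  | nil => rfl
  | cons A l ih =>
    rw [List.map_cons, List.sum_cons, Matrix.add_apply, ih]
    exact kE_add _ _

/-- Zero check of a sum. -/
def chZero (l : List ℕ) : Bool :=
  idx8.all fun i => idx8.all fun j => Nat.beq (sumE l i j % 8) 0

theorem sum_eq_zero {l : List ℕ} (h : chZero l = true) : (l.map toMat).sum = 0 := by
  funext a b
  rw [toMat_sum, kE_congr (show sumE l (D4.rk a) (D4.rk b) % 8 = 0 % 8 from ?_)]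
  · rfl
  · simp only [chZero, List.all_eq_true] at h
    exact Nat.eq_of_beq_eq_true (h _ (rk_mem a) _ (rk_mem b))

/-- Equality check of a sum with a code. -/
def chSum (l : List ℕ) (C : ℕ) : Bool :=
  idx8.all fun i => idx8.all fun j => Nat.beq (sumE l i j % 8) (ent C i j % 8)

theorem sum_eq {l : List ℕ} {C : ℕ} (h : chSum l C = true) : (l.map toMat).sum = toMat C := by
  funext a b
  simp only [chSum, List.all_eq_true] at h
  rw [toMat_sum]
  exact kE_congr (Nat.eq_of_beq_eq_true (h _ (rk_mem a) _ (rk_mem b)))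

/-- The code at a table position. -/
def get (n : ℕ) : ℕ := (mats.getD (n / 24) []).getD (n % 24) 0

/-- The matrix at a table position. -/
def el (n : ℕ) : Matrix I I K8 := toMat (get n)

/-- Product check by positions. -/
def chI (a b c : ℕ) : Bool := ch (get a) (get b) (get c)

theorem el_mul {a b c : ℕ} (h : chI a b c = true) : el a * el b = el c := toMat_mul h

/-- Some entries differ. -/
def chNe (a b : ℕ) : Bool :=
  idx8.any fun i => idx8.any fun j => !Nat.beq (ent (get a) i j) (ent (get b) i j)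

theorem el_ne {a b : ℕ} (h : chNe a b = true) : el a ≠ el b := by
  intro he
  simp only [chNe, List.any_eq_true] at h
  obtain ⟨i, hi, j, hj, hne⟩ := h
  have hlt : ∀ A i j, ent A i j < 8 := fun A i j => Nat.mod_lt _ (by norm_num)
  have hex : ∀ k ∈ idx8, ∃ a : I, D4.rk a = k := by decide
  obtain ⟨x, rfl⟩ := hex i hi
  obtain ⟨y, rfl⟩ := hex j hj
  have h1 := congrArg (fun z : K8 => z.v.val) (congrFun (congrFun he x) y)
  simp only [el, toMat, Matrix.of_apply, kE, Nat.mod_eq_of_lt (hlt _ _ _)] at h1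
  rw [h1] at hne
  simp at hne

theorem one_el : el oneIx = 1 := by decide +kernel

theorem ops_ok : (List.range ops.length).all (fun k =>
    let p := ops.getD k (0, 0)
    Nat.blt p.1 (16 + k) && Nat.blt p.2 (16 + k) && chI p.1 p.2 (16 + k)) = true := by
  decide +kernel

/-- Every table entry lies in a set that contains the first sixteen and is closed under products. -/
theorem table_induction {P : Matrix I I K8 → Prop} (h0 : ∀ n < 16, P (el n))
    (hmul : ∀ A B, P A → P B → P (A * B)) (n : ℕ) (hn : n < 16 + ops.length) : P (el n) := by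
  induction n using Nat.strong_induction_on with
  | _ n ih =>
    rcases Nat.lt_or_ge n 16 with h | h
    · exact h0 n h
    · obtain ⟨k, rfl⟩ := Nat.exists_eq_add_of_le h
      have hk := List.all_eq_true.mp ops_ok k (List.mem_range.mpr (by omega))
      simp only [Bool.and_eq_true, Nat.blt_eq] at hk
      obtain ⟨⟨h1, h2⟩, h3⟩ := hk
      rw [← el_mul h3]
      exact hmul _ _ (ih _ h1 (by omega)) (ih _ h2 (by omega))

end Cfsg.Agent.Lib.Trial3D4
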