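import Cfsg.Agent.Lib.Trial3D4.Codes
import Cfsg.Agent.Lib.ChevClassical.D4
import Cfsg.Agent.Lib.LieTwisted.Twist.D4Thms
import Cfsg.Prelude.Def_LieTwisted

/-!
# `³D₄(2)` as a group of isometries of the natural module over the field with eight elements
-/

set_option autoImplicit false
set_option maxRecDepth 100000

namespace Cfsg.Agent.Lib.Trial3D4

open Cfsg.Lie Cfsg.Agent.Lib.Sz8 Cfsg.Agent.Lib.ChevClassical

local notation "Rt4" => Cfsg.Agent.Lib.ChevStructure.Rt chevD4

/-- The isometry group of the natural module. -/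
abbrev O8 : Subgroup (Matrix.GeneralLinearGroup I K8) :=
  Cfsg.isometryGroup K8 (Cfsg.quadFormPlus 4 K8)

/-- A word for the orbit of fixed roots. -/
def wordA (s : Bool) (t : K8) : List (Rt4 × K8) :=
  [(cond s ⟨9, by decide⟩ ⟨14, by decide⟩, t)]

/-- A word for the orbit of size three. -/
def wordB (s : Bool) (t : K8) : List (Rt4 × K8) :=
  [(cond s ⟨5, by decide⟩ ⟨18, by decide⟩, t), (cond s ⟨10, by decide⟩ ⟨13, by decide⟩, t * t),
    (cond s ⟨11, by decide⟩ ⟨12, by decide⟩, t * t * (t * t))]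

/-- The product of a word. -/
def welt (w : List (Rt4 × K8)) : O8 := (w.map fun p => D4.roots.elt D4.hf p.1 p.2).prod

/-- The matrix of a word. -/
def wmat (w : List (Rt4 × K8)) : Matrix I I K8 := (w.map fun p => D4.roots.mat K8 p.1 p.2).prod

/-- The generators. -/
def genSet : Set O8 :=
  {g | ∃ s t, t * t = t ∧ g = welt (wordA s t)} ∪ {g | ∃ s t, g = welt (wordB s t)}

/-- The group. -/
def Gp : Subgroup O8 := Subgroup.closure genSet

/-- The natural representation. -/
def rho : Gp →* Matrix I I K8 :=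
  ((Units.coeHom _).comp O8.subtype).comp Gp.subtype

theorem rho_apply (g : Gp) : rho g = (g.1.1 : Matrix I I K8) := rfl

theorem rho_inj : Function.Injective rho := fun a b h => by
  apply Subtype.ext; apply Subtype.ext; exact Units.ext h

theorem welt_val (w : List (Rt4 × K8)) : ((welt w).1 : Matrix I I K8) = wmat w := by
  induction w with
  | nil => rfl
  | cons p w ih =>
    simp only [welt, wmat, List.map_cons, List.prod_cons] at ih ⊢
    rw [Subgroup.coe_mul, Units.val_mul, ih]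
    rfl

theorem gen_check : ∀ n : Fin 16, wmat
    (if n.val < 2 then wordA (n.val == 1) 1 else wordB (n.val % 2 == 1) (kE (n.val / 2))) =
      el n.val := by
  decide +kernel

theorem el_mem (n : ℕ) (hn : n < 16 + ops.length) : ∃ g : Gp, rho g = el n := by
  refine table_induction (P := fun A => ∃ g : Gp, rho g = A) (fun m hm => ?_)
    (fun A B hA hB => ?_) n hn
  · have h := gen_check ⟨m, hm⟩
    simp only [← welt_val] at h
    by_cases h2 : m < 2
    · simp only [h2, ↓reduceIte] at h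
      exact ⟨⟨_, Subgroup.subset_closure (Or.inl ⟨_, 1, mul_one 1, rfl⟩)⟩, h⟩
    · simp only [h2, ↓reduceIte] at h
      exact ⟨⟨_, Subgroup.subset_closure (Or.inr ⟨_, _, rfl⟩)⟩, h⟩
  · obtain ⟨a, rfl⟩ := hA
    obtain ⟨b, rfl⟩ := hB
    exact ⟨a * b, map_mul rho a b⟩

theorem le_omega : Gp ≤ Cfsg.Omega K8 (Cfsg.quadFormPlus 4 K8) := by
  have h : ∀ w : List (Rt4 × K8), welt w ∈ Cfsg.Omega K8 (Cfsg.quadFormPlus 4 K8) := fun w => by
    refine Subgroup.list_prod_mem _ fun x hx => ?_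
    obtain ⟨p, -, rfl⟩ := List.mem_map.mp hx
    exact D4.elt_mem_omega p.1 p.2
  refine (Subgroup.closure_le _).mpr ?_
  rintro _ (⟨s, t, -, rfl⟩ | ⟨s, t, rfl⟩) <;> exact h _

/-- The representation on the Lie algebra. -/
noncomputable def ad : Gp →* GL chevD4.Idx K8 := (psiHom D4.hf).comp Gp.subtype

theorem ad_inj : Function.Injective ad := by
  refine (injective_iff_map_eq_one ad).mpr fun g hg => ?_
  have h1 : D4.cert.psi (rho g) = 1 := congrArg Units.val hg
  obtain ⟨d, hd, he⟩ := D4.cert.scalar_of_psi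
    (p := (.inl 0 : I)) (p' := .inr 0) (r := .inl 1) (r' := .inr 1)
    (by unfold Cert.TwoPairs; decide +kernel) (by unfold Cert.Adj; decide +kernel)
    (by unfold Cert.Adj; decide +kernel) (iso_of_mem D4.hf g.1) h1
  have hd1 : ∀ d : K8, d * d = 1 → d = 1 := by decide +kernel
  refine rho_inj ?_
  rw [map_one, rho_apply, he, hd1 d hd, one_smul]

theorem welt_ad (w : List (Rt4 × K8)) (h : ∀ p ∈ w, p.1 ∈ D4.roots.gens) :
    ((psiHom D4.hf (welt w)).1 : Matrix chevD4.Idx chevD4.Idx K8) =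
      chevD4.wordMat K8 (w.map fun p => (p.1.val, p.2)) := by
  induction w with
  | nil =>
    rw [welt, List.map_nil, List.prod_nil, map_one]
    rfl
  | cons p w ih =>
    rw [welt, List.map_cons, List.prod_cons, map_mul, Units.val_mul,
      ← welt, ih fun q hq => h q (List.mem_cons_of_mem _ hq)]
    simp only [ChevalleyDatum.wordMat, List.map_cons, List.prod_cons]
    congr 1
    rw [psiHom_val]
    show D4.cert.psi (D4.roots.mat K8 p.1 p.2) = _
    rw [D4.roots.psi_mat ChevStructure.Cert.D4.core K8 p.1 (h p List.mem_cons_self),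
      ← ChevStructure.Cert.D4.core.xI_eq_x]

theorem range_ad : ad.range = Cfsg.Lie.twistedD4 K8 2 := by
  rw [ad, MonoidHom.range_comp, Subgroup.range_subtype, Gp, MonoidHom.map_closure, twistedD4,
    ChevalleyDatum.genSubgroup]
  congr 1
  have hA : ∀ s t, ∀ p ∈ wordA s t, p.1 ∈ D4.roots.gens := by
    intro s t p hp
    cases s <;> simp [wordA] at hp <;> subst hp <;> dsimp only <;> decide +kernel
  have hB : ∀ s t, ∀ p ∈ wordB s t, p.1 ∈ D4.roots.gens := by
    intro s t p hp
    cases s <;> simp [wordB] at hp <;> rcases hp with rfl | rfl | rfl <;> dsimp only <;> decide +kernel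
  ext x
  constructor
  · rintro ⟨_, (⟨s, t, ht, rfl⟩ | ⟨s, t, rfl⟩), rfl⟩
    · refine ⟨_, Or.inl ⟨t, by rwa [pow_two], cond s 9 14, ?_, ?_⟩, welt_ad _ (hA s t)⟩
      · cases s <;> simp [d4p2, d4m2]
      · cases s <;> simp [wordA]
    · refine ⟨_, Or.inr ⟨t, cond s (5, 10, 11) (18, 13, 12), ?_, ?_⟩, welt_ad _ (hB s t)⟩
      · cases s <;> simp [d4p1, d4p3, d4p4, d4m1, d4m3, d4m4]
      · cases s <;> simp [wordB, pow_succ, mul_assoc]
  · rintro ⟨w, (⟨t, ht, r, hr, rfl⟩ | ⟨t, rs, hr, rfl⟩), hx⟩ <;>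
      simp only [List.mem_cons, List.not_mem_nil, or_false] at hr <;> rcases hr with rfl | rfl
    · refine ⟨_, Or.inl ⟨false, t, by rwa [← pow_two], rfl⟩, Units.ext (Eq.trans ?_ hx.symm)⟩
      rw [welt_ad _ (hA _ t)]; simp [wordA, d4p2]
    · refine ⟨_, Or.inl ⟨true, t, by rwa [← pow_two], rfl⟩, Units.ext (Eq.trans ?_ hx.symm)⟩
      rw [welt_ad _ (hA _ t)]; simp [wordA, d4m2]
    · refine ⟨_, Or.inr ⟨false, t, rfl⟩, Units.ext (Eq.trans ?_ hx.symm)⟩
      rw [welt_ad _ (hB _ t)]; simp [wordB, d4p1, d4p3, d4p4, pow_succ, mul_assoc]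
    · refine ⟨_, Or.inr ⟨true, t, rfl⟩, Units.ext (Eq.trans ?_ hx.symm)⟩
      rw [welt_ad _ (hB _ t)]; simp [wordB, d4m1, d4m3, d4m4, pow_succ, mul_assoc]

/-- The group is `³D₄(2)`. -/
noncomputable def equivTwisted : Gp ≃* Cfsg.Lie.twistedD4 K8 2 :=
  (MonoidHom.ofInjective ad_inj).trans (MulEquiv.subgroupCongr range_ad)

noncomputable instance : Fintype Gp := Fintype.ofFinite _

theorem card_Gp : Nat.card Gp = 2 ^ 12 * 3 ^ 4 * 7 ^ 2 * 13 := by
  rw [Nat.card_congr equivTwisted.toEquiv,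
    LieTwisted.Twist.D4.card_twisted (q := 2) Nat.prime_two.isPrimePow (by rw [card_k8]; norm_num)]
  norm_num

end Cfsg.Agent.Lib.Trial3D4
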