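import Cfsg.Agent.Lib.Trial3D4.Sylow

/-!
# Elements centralising an element of order 7
-/

set_option autoImplicit false
set_option maxRecDepth 100000

namespace Cfsg.Agent.Lib.Trial3D4

open Cfsg.Agent.Lib.Sz8 Cfsg.Agent.Lib.ChevClassical
open scoped Matrix

/-- The form. -/
abbrev qf : (I → K8) → K8 := Cfsg.quadFormPlus 4 K8

theorem iso_rho (g : Gp) (v : I → K8) : qf (rho g *ᵥ v) = qf v := g.1.2 v v

/-- The frame. -/
def Vb : Matrix I I K8 := toMat basis7

/-- Its inverse. -/
def Cb : Matrix I I K8 := toMat coord7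

theorem Cb_Vb : Cb * Vb = 1 := by
  have h : ch coord7 basis7 (get oneIx) = true := by decide +kernel
  exact (toMat_mul h).trans one_el

theorem Vb_Cb : Vb * Cb = 1 := mul_eq_one_comm.mp Cb_Vb

theorem iso_Vb (v : I → K8) : qf (Vb *ᵥ v) = qf v := by
  show Cfsg.quadFormPlus 4 K8 _ = Cfsg.quadFormPlus 4 K8 _
  rw [D4.hf, D4.hf, ← qval_conj]
  obtain ⟨B, hB⟩ := eq_form_add (M := Vbᵀ * D4.cert.Um K8 * Vb) (l := 1)
    (D4.cert.Um K8) D4.cert.rk D4.cert.rk_inj (by decide +kernel) (by decide +kernel)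
  rw [hB, qval, Matrix.add_mulVec, dotProduct_add]
  show qval ((1 : K8) • D4.cert.Um K8) v + qval (B - Bᵀ) v = _
  rw [one_smul, qval_alt, add_zero]

theorem iso_Cb (v : I → K8) : qf (Cb *ᵥ v) = qf v := by
  rw [← iso_Vb (Cb *ᵥ v), Matrix.mulVec_mulVec, Vb_Cb, Matrix.one_mulVec]

/-- The data of an element of the Sylow subgroup. -/
theorem check7 : (List.range list7.length).all (fun i =>
    chPow (pow7.getD i []) && Nat.beq (pow7.getD i []).length 8 &&
    Nat.beq ((pow7.getD i []).getD 1 0) (list7.getD i 0) &&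
    (Nat.beq i 0 || chZero ((List.range 7).map fun k => get ((pow7.getD i []).getD k 0)) ||
      (ch coord7 (get (list7.getD i 0)) (diag7.getD i (0, 0)).2 &&
      ch (diag7.getD i (0, 0)).2 basis7 (diag7.getD i (0, 0)).1 &&
      idx8.all fun a => idx8.all fun b =>
        (Nat.beq a b || Nat.beq (ent (diag7.getD i (0, 0)).1 a b) 0) &&
        (Nat.beq (a % 4) (b % 4) ||
          !Nat.beq (ent (diag7.getD i (0, 0)).1 a a) (ent (diag7.getD i (0, 0)).1 b b))))) = true := by
  decide +kernel

/-- An isometry centralising a diagonal matrix with eigenvalues separated outside dual pairs. -/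
theorem mono_of_iso {G : Matrix I I K8} (hG : ∀ v, qf (G *ᵥ v) = qf v)
    (hoff : ∀ a b : I, b ≠ a → b ≠ D4.dual a → G a b = 0) : G ^ 14 = 1 := by
  have hcol : ∀ (H : Matrix I I K8), (∀ v, qf (H *ᵥ v) = qf v) →
      (∀ a b : I, b ≠ a → b ≠ D4.dual a → H a b = 0) → ∀ k : Fin 4,
      H (.inl k) (.inl k) * H (.inr k) (.inl k) = 0 ∧
      H (.inl k) (.inr k) * H (.inr k) (.inr k) = 0 ∧
      (H (.inl k) (.inl k) + H (.inl k) (.inr k)) * (H (.inr k) (.inl k) + H (.inr k) (.inr k)) = 1 := by
    intro H hH ho k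
    have hl : ∀ i j : Fin 4, i ≠ j →
        H (.inl i) (.inl j) = 0 ∧ H (.inr i) (.inl j) = 0 ∧
        H (.inl i) (.inr j) = 0 ∧ H (.inr i) (.inr j) = 0 := fun i j hij =>
      ⟨ho _ _ (by simp [hij.symm]) (by simp [D4.dual]), ho _ _ (by simp) (by simp [D4.dual, hij.symm]),
        ho _ _ (by simp) (by simp [D4.dual, hij.symm]), ho _ _ (by simp [hij.symm]) (by simp [D4.dual])⟩
    have hq : ∀ x y : K8,
        (H (.inl k) (.inl k) * x + H (.inl k) (.inr k) * y) *
          (H (.inr k) (.inl k) * x + H (.inr k) (.inr k) * y) = x * y := by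
      intro x y
      have h := hH (Pi.single (.inl k) x + Pi.single (.inr k) y)
      simp only [qf, Cfsg.quadFormPlus, Matrix.mulVec_add, Matrix.mulVec_single, Pi.add_apply,
        Pi.smul_apply, op_smul_eq_mul, Matrix.col_apply] at h
      rw [Finset.sum_eq_single k (fun i _ hi => by
          obtain ⟨h1, h2, h3, h4⟩ := hl i k hi; simp [h1, h2, h3, h4]) (by simp),
        Finset.sum_eq_single k (fun i _ hi => by simp [hi]) (by simp)] at h
      simp only [Pi.single_eq_same, Pi.single_apply, reduceCtorEq, ↓reduceIte, add_zero, zero_add]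
        at h
      linear_combination h
    exact ⟨by simpa using hq 1 0, by simpa using hq 0 1, by simpa using hq 1 1⟩
  have hk := hcol G hG hoff
  -- the square is diagonal
  have h22 : ∀ k : Fin 4, G (.inr k) (.inl k) *
        (G (.inl k) (.inl k) + G (.inr k) (.inr k)) = 0 ∧
      G (.inl k) (.inr k) * (G (.inl k) (.inl k) + G (.inr k) (.inr k)) = 0 := by
    have key : ∀ a b c d : K8, a * c = 0 → b * d = 0 → (a + b) * (c + d) = 1 →
        c * (a + d) = 0 ∧ b * (a + d) = 0 := by
      intro a b c d h1 h2 h3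
      rcases mul_eq_zero.mp h1 with ha | hc
      · subst ha
        have hb : b ≠ 0 := fun hb => by simp [hb] at h3
        rcases mul_eq_zero.mp h2 with h | hd
        · exact absurd h hb
        · subst hd; simp
      · subst hc
        have hd : d ≠ 0 := fun hd => by simp [hd] at h3
        rcases mul_eq_zero.mp h2 with hb | h
        · subst hb; simp
        · exact absurd h hd
    exact fun k => key _ _ _ _ (hk k).1 (hk k).2.1 (hk k).2.2
  have hsq : ∀ a b : I, a ≠ b → (G ^ 2) a b = 0 := by
    intro a b hab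
    rw [pow_two, Matrix.mul_apply]
    by_cases hb : b = D4.dual a
    · subst hb
      rcases a with k | k
      · rw [Finset.sum_eq_add (Sum.inl k) (Sum.inr k) (by simp) (fun c _ hc => by
          rw [hoff _ c hc.1 (by simpa [D4.dual] using hc.2), zero_mul]) (by simp) (by simp)]
        simp only [D4.dual]
        linear_combination (h22 k).2
      · rw [Finset.sum_eq_add (Sum.inl k) (Sum.inr k) (by simp) (fun c _ hc => by
          rw [hoff _ c hc.2 (by simpa [D4.dual] using hc.1), zero_mul]) (by simp) (by simp)]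
        simp only [D4.dual]
        linear_combination (h22 k).1
    · refine Finset.sum_eq_zero fun c _ => ?_
      by_cases hc : c = a
      · rw [hc, hoff a b (Ne.symm hab) hb, mul_zero]
      by_cases hc' : c = D4.dual a
      · subst hc'
        rw [hoff (D4.dual a) b hb ?_, mul_zero]
        rcases a with k | k <;> simpa [D4.dual] using Ne.symm hab
      · rw [hoff a c hc hc', zero_mul]
  have hG2 : G ^ 2 = Matrix.diagonal fun a => (G ^ 2) a a := by
    ext a b
    rcases eq_or_ne a b with rfl | hab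
    · simp
    · rw [Matrix.diagonal_apply_ne _ hab, hsq a b hab]
  have hiso2 : ∀ v, qf ((G ^ 2) *ᵥ v) = qf v := fun v => by
    rw [pow_two, ← Matrix.mulVec_mulVec, hG, hG]
  have hne : ∀ k : Fin 4, (G ^ 2) (.inl k) (.inl k) ≠ 0 ∧ (G ^ 2) (.inr k) (.inr k) ≠ 0 := by
    intro k
    have h := (hcol (G ^ 2) hiso2 (fun a b h1 _ => hsq a b (Ne.symm h1)) k).2.2
    rw [hsq (.inl k) (.inr k) (by simp), hsq (.inr k) (.inl k) (by simp), add_zero, zero_add] at h
    exact ⟨left_ne_zero_of_mul_eq_one h, right_ne_zero_of_mul_eq_one h⟩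
  have h7 : ∀ d : K8, d ≠ 0 → d ^ 7 = 1 := fun d hd => by
    have h := FiniteField.pow_card_sub_one_eq_one d hd
    rwa [card_k8] at h
  rw [show (14 : ℕ) = 2 * 7 from rfl, pow_mul, hG2, Matrix.diagonal_pow]
  ext a b
  rcases eq_or_ne a b with rfl | hab
  · rw [Matrix.diagonal_apply_eq, Matrix.one_apply_eq, Pi.pow_apply]
    rcases a with k | k
    · exact h7 _ (hne k).1
    · exact h7 _ (hne k).2
  · rw [Matrix.diagonal_apply_ne _ hab, Matrix.one_apply_ne hab]

theorem pairs : ∀ a b : I, D4.rk a % 4 = D4.rk b % 4 → b = a ∨ b = D4.dual a := by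
  decide +kernel

theorem seven_dichotomy {g h : Gp} (hgh : Commute g h) (ho : orderOf h = 7) :
    S 7 h = 0 ∨ g ^ 14 = 1 := by
  obtain ⟨c, i, hi, hc⟩ := conj_seven (k := 1) (h := h) (by rw [ho]; norm_num)
  set y := c * h * c⁻¹ with hy
  set x := c * g * c⁻¹ with hxdef
  have hxy : x * y = y * x := by
    rw [hy, hxdef, conj_mul, conj_mul, hgh.eq]
  have hl := List.all_eq_true.mp check7 i (List.mem_range.mpr hi)
  simp only [Bool.and_eq_true, Bool.or_eq_true, List.all_eq_true] at hl
  obtain ⟨⟨⟨hp, hlen⟩, hfst⟩, hcase⟩ := hl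
  have hlen' := Nat.eq_of_beq_eq_true hlen
  rcases hcase with (h0 | h0) | h0
  · exfalso
    have h1 : y = 1 := rho_inj (by
      rw [hc, Nat.eq_of_beq_eq_true h0, show list7.getD 0 0 = oneIx by decide +kernel, one_el, map_one])
    rw [hy, conj_eq_one_iff] at h1
    rw [h1, orderOf_one] at ho
    exact absurd ho (by norm_num)
  · left
    refine S_eq_zero_of_conj (c := c) ?_
    rw [S_eq_list 7 _ (fun k => (pow7.getD i []).getD k 0) fun k hk =>
      rho_pow hp (by rw [Nat.eq_of_beq_eq_true hfst]; exact hc) k (by omega)]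
    exact sum_eq_zero h0
  · right
    obtain ⟨⟨hC, hV⟩, hd⟩ := h0
    set D := toMat (diag7.getD i (0, 0)).1 with hD
    have hCyV : Cb * rho y * Vb = D := by
      rw [hc, el, Cb, Vb, toMat_mul hC, toMat_mul hV]
    set G := Cb * rho x * Vb with hGdef
    have hGD : G * D = D * G := by
      have e : rho x * rho y = rho y * rho x := by rw [← map_mul, hxy, map_mul]
      calc G * D = Cb * (rho x * (Vb * Cb) * rho y) * Vb := by
            rw [hGdef, ← hCyV]; simp only [Matrix.mul_assoc]
        _ = Cb * (rho y * (Vb * Cb) * rho x) * Vb := by rw [Vb_Cb, mul_one, mul_one, e]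
        _ = D * G := by rw [hGdef, ← hCyV]; simp only [Matrix.mul_assoc]
    have hlt : ∀ a b, ent (diag7.getD i (0, 0)).1 a b < 8 := fun a b => Nat.mod_lt _ (by norm_num)
    have hDoff : ∀ a b : I, a ≠ b → D a b = 0 := by
      intro a b hab
      rcases (hd _ (rk_mem a) _ (rk_mem b)).1 with h | h
      · exact absurd (D4.cert.rk_inj (Nat.eq_of_beq_eq_true h)) hab
      · simp only [hD, toMat, Matrix.of_apply, Nat.eq_of_beq_eq_true h]; rfl
    have hDne : ∀ a b : I, b ≠ a → b ≠ D4.dual a → D a a ≠ D b b := by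
      intro a b h1 h2 he
      rcases (hd _ (rk_mem a) _ (rk_mem b)).2 with h | h
      · rcases pairs a b (Nat.eq_of_beq_eq_true h) with e | e
        · exact h1 e
        · exact h2 e
      · have he' := congrArg (fun z : K8 => z.v.val) he
        simp only [hD, toMat, Matrix.of_apply, kE, Nat.mod_eq_of_lt (hlt _ _)] at he'
        rw [he'] at h
        simp at h
    have hoff : ∀ a b : I, b ≠ a → b ≠ D4.dual a → G a b = 0 := by
      intro a b h1 h2
      have h := congrFun (congrFun hGD a) b
      rw [Matrix.mul_apply, Matrix.mul_apply,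
        Finset.sum_eq_single b (fun k _ hk => by rw [hDoff k b hk, mul_zero]) (by simp),
        Finset.sum_eq_single a (fun k _ hk => by rw [hDoff a k (Ne.symm hk), zero_mul]) (by simp)] at h
      by_contra hne
      exact hDne a b h1 h2 (mul_left_cancel₀ hne (by linear_combination -h))
    have hGiso : ∀ v, qf (G *ᵥ v) = qf v := fun v => by
      rw [hGdef, ← Matrix.mulVec_mulVec, ← Matrix.mulVec_mulVec, iso_Cb, iso_rho, iso_Vb]
    have h14 := mono_of_iso hGiso hoff
    have hpow : ∀ n : ℕ, (Cb * rho x * Vb) ^ n = Cb * rho (x ^ n) * Vb := by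
      intro n
      induction n with
      | zero => rw [pow_zero, pow_zero, map_one, mul_one, Cb_Vb]
      | succ n ih =>
        rw [pow_succ, ih, pow_succ x n, map_mul rho (x ^ n) x]
        calc _ = Cb * (rho (x ^ n) * (Vb * Cb) * rho x) * Vb := by simp only [Matrix.mul_assoc]
          _ = _ := by rw [Vb_Cb, mul_one]
    rw [hGdef, hpow] at h14
    have hx14 : x ^ 14 = 1 := rho_inj (by
      calc rho (x ^ 14) = (Vb * Cb) * rho (x ^ 14) * (Vb * Cb) := by rw [Vb_Cb, one_mul, mul_one]
        _ = Vb * (Cb * rho (x ^ 14) * Vb) * Cb := by simp only [Matrix.mul_assoc]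
        _ = rho 1 := by rw [h14, mul_one, Vb_Cb, map_one])
    rwa [hxdef, conj_pow, conj_eq_one_iff] at hx14

end Cfsg.Agent.Lib.Trial3D4
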