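import Cfsg.Agent.Lib.Trial3D4.Local
import Cfsg.Agent.Lib.Trial3D4.Seven
import Cfsg.Agent.Lib.Char2Inv.OrthMatrixOmega

/-!
# Either the power sum vanishes or twice the order occurs
-/

set_option autoImplicit false
set_option maxRecDepth 100000

namespace Cfsg.Agent.Lib.Trial3D4

open Cfsg.Agent.Lib.Sz8 Module
open scoped Matrix

instance : CharP K8 2 := (CharP.charP_iff_prime_eq_zero Nat.prime_two).mpr (by decide +kernel)

theorem mat_add_self (A : Matrix I I K8) : A + A = 0 := by
  ext a b
  exact CharTwo.add_self_eq_zero (A a b)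

theorem mat_sub_eq_add (A B : Matrix I I K8) : A - B = A + B := by
  ext a b
  exact CharTwo.sub_eq_add (A a b) (B a b)

theorem sq_add_one (A : Matrix I I K8) : (A + 1) * (A + 1) = A * A + 1 := by
  rw [add_mul, mul_add, mul_one, one_mul, show A * A + A + (A + 1) = A * A + (A + A) + 1 by abel,
    mat_add_self, add_zero]

theorem even_rank (g : Gp) : Even (rho g - 1).rank :=
  (Char2Inv.OrthMatrixOmega.mem_Omega_iff (Forms.qPlus (F := K8) 4) (OrthStd.quadFormPlus_eq 4)
    (Forms.qPlus_nondeg 4) (by decide +kernel) g.1).mp (le_omega g.2)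

theorem S_mul (d m : ℕ) (g : Gp) : S (d * m) g = S m (g ^ d) * S d g := by
  induction m with
  | zero => simp [S]
  | succ m ih =>
    rw [Nat.mul_succ, S, Finset.sum_range_add, ← S, ih]
    conv_rhs => rw [S, Finset.sum_range_succ, ← S, add_mul]
    refine congrArg₂ (· + ·) rfl ?_
    rw [S, Finset.mul_sum]
    refine Finset.sum_congr rfl fun i _ => ?_
    rw [pow_add, map_mul, ← pow_mul]

/-- A nilpotent map vanishes after one more step than its rank. -/
theorem pow_eq_zero_of_rank_le {V : Type*} [AddCommGroup V] [Module K8 V] [FiniteDimensional K8 V]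
    {L : Module.End K8 V} (hL : IsNilpotent L) {r : ℕ}
    (hr : finrank K8 (LinearMap.range L) ≤ r) : L ^ (r + 1) = 0 := by
  obtain ⟨N, hN⟩ := hL
  have hmem : ∀ x : V, L x ∈ LinearMap.range L := fun x => LinearMap.mem_range_self L x
  let L' : Module.End K8 (LinearMap.range L) := L.restrict fun x _ => hmem x
  have hpow : ∀ (k : ℕ) (w : LinearMap.range L), ((L' ^ k) w : V) = (L ^ k) w := by
    intro k
    induction k with
    | zero => intro w; rfl
    | succ k ih =>
      intro w
      rw [pow_succ, pow_succ, Module.End.mul_apply, Module.End.mul_apply, ih]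
      rfl
  refine LinearMap.ext fun x => ?_
  rw [pow_succ, Module.End.mul_apply]
  have h1 : (L' ^ N) ⟨L x, hmem x⟩ = 0 := Subtype.ext (by rw [hpow, hN]; rfl)
  have h2 := Module.End.ker_pow_le_ker_pow_finrank L' N h1
  have h3 : (L' ^ r) ⟨L x, hmem x⟩ = 0 := by
    obtain ⟨d, hd⟩ := Nat.exists_eq_add_of_le hr
    rw [hd, add_comm, pow_add, Module.End.mul_apply, LinearMap.mem_ker.mp h2, map_zero]
  have h4 := hpow r ⟨L x, hmem x⟩
  rw [h3] at h4
  exact h4.symm

theorem mat_pow_eq_zero {A : Matrix I I K8} (hA : IsNilpotent A) {r : ℕ} (hr : A.rank ≤ r) :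
    A ^ (r + 1) = 0 := by
  refine (Matrix.toLinAlgEquiv' : Matrix I I K8 ≃ₐ[K8] _).injective ?_
  rw [map_pow, map_zero]
  exact pow_eq_zero_of_rank_le (hA.map Matrix.toLinAlgEquiv') hr

theorem not_isUnit_of_nilpotent {A : Matrix I I K8} (hA : IsNilpotent A) : A.rank ≠ 8 := by
  intro h
  have hu : IsUnit A := by
    rw [← Matrix.mulVec_surjective_iff_isUnit]
    have ht : LinearMap.range A.mulVecLin = ⊤ :=
      Submodule.eq_top_of_finrank_eq (h.trans (by simp))
    intro v
    obtain ⟨x, hx⟩ := LinearMap.range_eq_top.mp ht v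
    exact ⟨x, hx⟩
  obtain ⟨n, hn⟩ := hA
  have := hu.pow n
  rw [hn] at this
  exact not_isUnit_zero this

theorem S_eight {h : Gp} (ho : orderOf h = 8) : S 8 h = 0 := by
  set N := rho h + 1 with hNdef
  have h4 : N ^ 4 = rho (h ^ 4) + 1 := by
    rw [pow_mul N 2 2, pow_two, pow_two, hNdef, sq_add_one, sq_add_one,
      ← map_mul, ← map_mul, ← pow_two, ← pow_two, ← pow_mul]
  have h8 : N ^ 8 = 0 := by
    have hh : h ^ (4 + 4) = 1 := orderOf_dvd_iff_pow_eq_one.mp (by rw [ho])
    rw [pow_mul N 4 2, pow_two, h4, sq_add_one, ← map_mul, ← pow_add, hh, map_one, mat_add_self]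
  have hev : Even N.rank := by
    have := even_rank h
    rwa [mat_sub_eq_add] at this
  have h6 : N.rank ≤ 6 := by
    have h1 := N.rank_le_card_width
    have h2 := not_isUnit_of_nilpotent ⟨8, h8⟩
    simp at h1
    obtain ⟨k, hk⟩ := hev
    omega
  have h7 := mat_pow_eq_zero ⟨8, h8⟩ h6
  have h2 : N ^ 2 = rho (h ^ 2) + 1 := by
    rw [pow_two, hNdef, sq_add_one, ← map_mul, ← pow_two]
  rw [show (6 + 1 : ℕ) = 4 + 2 + 1 from rfl, pow_add, pow_add, pow_one, h4, h2, hNdef] at h7
  rw [← h7, S]
  simp only [Finset.sum_range_succ, Finset.sum_range_zero, mul_add, add_mul, mul_one, one_mul,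
    ← map_mul, ← pow_add, ← pow_succ, pow_zero, pow_one, map_one, zero_add]
  abel

theorem S_twelve {g : Gp} (ho : orderOf g = 12) : S 12 g = 0 := by
  set U := rho (g ^ 3) with hU
  set H := rho (g ^ 4) with hH
  set N := U + 1 with hN
  set P := 1 + H + H * H with hP
  have hU4 : U * U * (U * U) = 1 := by
    rw [hU, ← map_mul, ← map_mul, ← pow_add, ← pow_add,
      orderOf_dvd_iff_pow_eq_one.mp (show orderOf g ∣ 3 + 3 + (3 + 3) by rw [ho]), map_one]
  have hH3 : H * H * H = 1 := by
    rw [hH, ← map_mul, ← map_mul, ← pow_add, ← pow_add,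
      orderOf_dvd_iff_pow_eq_one.mp (show orderOf g ∣ 4 + 4 + 4 by rw [ho]), map_one]
  have hUH : Commute U H := by
    rw [hU, hH]; exact ((Commute.refl g).pow_pow 3 4).map rho
  have hNH : Commute N H := hUH.add_left (Commute.one_left H)
  have hNP : Commute N P := ((Commute.one_right N).add_right hNH).add_right (hNH.mul_right hNH)
  have hNQ : Commute N (1 + P) := (Commute.one_right N).add_right hNP
  have hHP : H * P = P := by
    rw [hP, mul_add, mul_add, mul_one, ← mul_assoc, hH3]; abel
  have hPP : P * P = P := by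
    conv_lhs => arg 1; rw [hP]
    rw [add_mul, add_mul, one_mul, hHP, mul_assoc, hHP, hHP, add_assoc, mat_add_self, add_zero]
  have hN4 : N ^ 4 = 0 := by
    rw [pow_mul N 2 2, pow_two, pow_two, hN, sq_add_one, sq_add_one, hU4,
      mat_add_self]
  have hQ0 : P * (1 + P) = 0 := by rw [mul_add, mul_one, hPP, mat_add_self]
  -- the rank splits
  have hsplit : N.rank = (N * P).rank + (N * (1 + P)).rank := by
    set L₁ := (N * P).mulVecLin with hL₁
    set L₂ := (N * (1 + P)).mulVecLin with hL₂
    have hsum : LinearMap.range N.mulVecLin = LinearMap.range L₁ ⊔ LinearMap.range L₂ := by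
      refine le_antisymm ?_ (sup_le ?_ ?_)
      · rintro _ ⟨x, rfl⟩
        have : N *ᵥ x = (N * P) *ᵥ x + (N * (1 + P)) *ᵥ x := by
          rw [← Matrix.add_mulVec, ← mul_add, add_left_comm, mat_add_self, add_zero, mul_one]
        rw [Matrix.mulVecLin_apply, this]
        exact Submodule.add_mem_sup ⟨x, rfl⟩ ⟨x, rfl⟩
      · rw [hL₁, Matrix.mulVecLin_mul]; exact LinearMap.range_comp_le_range _ _
      · rw [hL₂, Matrix.mulVecLin_mul]; exact LinearMap.range_comp_le_range _ _
    have hinf : LinearMap.range L₁ ⊓ LinearMap.range L₂ = ⊥ := by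
      rw [Submodule.eq_bot_iff]
      rintro w ⟨⟨x, hx⟩, y, hy⟩
      simp only [hL₁, hL₂, Matrix.mulVecLin_apply] at hx hy
      have h1 : P *ᵥ w = w := by
        rw [← hx, Matrix.mulVec_mulVec, ← mul_assoc, ← hNP.eq, mul_assoc, hPP]
      have h2 : P *ᵥ w = 0 := by
        rw [← hy, Matrix.mulVec_mulVec, ← mul_assoc, ← hNP.eq, mul_assoc, hQ0, mul_zero,
          Matrix.zero_mulVec]
      exact h1.symm.trans h2
    have := Submodule.finrank_sup_add_finrank_inf_eq (LinearMap.range L₁) (LinearMap.range L₂)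
    rw [hinf, finrank_bot, add_zero, ← hsum] at this
    exact this
  -- the part without fixed points of `H` is even
  have heven2 : Even (N * (1 + P)).rank := by
    set X := LinearMap.range (N * (1 + P)).mulVecLin with hX
    have hmap : ∀ w ∈ X, H *ᵥ w ∈ X := by
      rintro _ ⟨x, rfl⟩
      refine ⟨H *ᵥ x, ?_⟩
      simp only [Matrix.mulVecLin_apply, Matrix.mulVec_mulVec]
      congr 1
      have hc : Commute H (1 + P) := (Commute.one_right H).add_right
        (((Commute.one_right H).add_right (Commute.refl H)).add_right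
          ((Commute.refl H).mul_right (Commute.refl H)))
      exact ((hNH.symm.mul_right hc).eq).symm
    let f : Function.End X := fun w => ⟨H *ᵥ w.1, hmap _ w.2⟩
    have hf : f ^ 3 ^ 1 = 1 := by
      funext w
      apply Subtype.ext
      show H *ᵥ (H *ᵥ (H *ᵥ w.1)) = w.1
      rw [Matrix.mulVec_mulVec, Matrix.mulVec_mulVec, hH3, Matrix.one_mulVec]
    have hfix : ∀ w : X, f w = w → w = 0 := by
      rintro ⟨w, x, rfl⟩ hw
      have hw' : H *ᵥ ((N * (1 + P)).mulVecLin x) = (N * (1 + P)).mulVecLin x :=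
        congrArg Subtype.val hw
      simp only [Matrix.mulVecLin_apply] at hw' ⊢
      apply Subtype.ext
      show (N * (1 + P)) *ᵥ x = 0
      generalize hv : (N * (1 + P)) *ᵥ x = v at hw'
      have h1 : P *ᵥ v = v := by
        rw [hP, Matrix.add_mulVec, Matrix.add_mulVec, Matrix.one_mulVec, ← Matrix.mulVec_mulVec,
          hw', hw', ← two_nsmul, show (2 : ℕ) • v = 0 from by
            funext a; exact CharTwo.two_nsmul (v a), zero_add]
      have h2 : P *ᵥ v = 0 := by
        rw [← hv, Matrix.mulVec_mulVec, ← mul_assoc, ← hNP.eq, mul_assoc, hQ0, mul_zero,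
          Matrix.zero_mulVec]
      exact h1.symm.trans h2
    haveI : Fintype X := Fintype.ofFinite _
    haveI : Fintype (Function.fixedPoints f) := Fintype.ofFinite _
    classical
    have hmod := Equiv.Perm.card_fixedPoints_modEq (p := 3) (n := 1) hf
    have h1 : Nat.card (Function.fixedPoints f) = 1 := by
      rw [Nat.card_eq_one_iff_exists]
      exact ⟨⟨0, Subtype.ext (Matrix.mulVec_zero H)⟩, fun w => Subtype.ext (hfix _ w.2)⟩
    rw [Fintype.card_eq_nat_card, Fintype.card_eq_nat_card, h1,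
      Module.natCard_eq_pow_finrank (K := K8) (V := X), Nat.card_eq_fintype_card (α := K8),
      card_k8] at hmod
    have hd : finrank K8 X = (N * (1 + P)).rank := rfl
    rw [← hd]
    rcases Nat.even_or_odd (finrank K8 X) with he | ⟨k, hk⟩
    · exact he
    · exfalso
      rw [hk, pow_succ, pow_mul] at hmod
      have : (64 : ℕ) ^ k * 8 ≡ 1 ^ k * 8 [MOD 3] := Nat.ModEq.mul_right _ (Nat.ModEq.pow _ rfl)
      have h64 := hmod.symm.trans this
      rw [one_pow] at h64
      exact absurd h64 (by decide)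
  have heven1 : Even (N * P).rank := by
    have h := even_rank (g ^ 3)
    rw [mat_sub_eq_add, ← hU, ← hN, hsplit] at h
    exact (Nat.even_add.mp h).mpr heven2
  have hnil : IsNilpotent (N * P) := ⟨4, by rw [hNP.mul_pow, hN4, zero_mul]⟩
  have hP4 : P.rank ≤ 4 := by
    have ho3 : orderOf (g ^ 4) = 3 := by
      rw [orderOf_pow, ho]; decide
    have h := rank_S_three ho3
    rwa [S, Finset.sum_range_succ, Finset.sum_range_succ, Finset.sum_range_one, pow_zero, map_one,
      pow_one, pow_two, map_mul] at h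
  have hle : (N * P).rank ≤ 2 := by
    have h1 := (Matrix.rank_mul_le_right N P).trans hP4
    obtain ⟨k, hk⟩ := heven1
    by_contra hlt
    have h4 : (N * P).rank = 4 := by omega
    -- then `N * P` maps the range of `P` onto itself
    have hr : LinearMap.range (N * P).mulVecLin = LinearMap.range P.mulVecLin := by
      refine Submodule.eq_of_le_of_finrank_le ?_ (by
        show P.rank ≤ (N * P).rank; omega)
      rw [hNP.eq, Matrix.mulVecLin_mul]
      exact LinearMap.range_comp_le_range _ _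
    have hall : ∀ n : ℕ, LinearMap.range ((N * P) ^ n * P).mulVecLin = LinearMap.range P.mulVecLin := by
      intro n
      induction n with
      | zero => rw [pow_zero, one_mul]
      | succ n ih =>
        rw [pow_succ', mul_assoc, Matrix.mulVecLin_mul, LinearMap.range_comp, ih,
          ← LinearMap.range_comp, ← Matrix.mulVecLin_mul, mul_assoc, hPP, hr]
    have h5 := hall 4
    rw [hNP.mul_pow, hN4, zero_mul, zero_mul, Matrix.mulVecLin_zero, LinearMap.range_zero] at h5
    have h6 : (N * P).rank = 0 := by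
      show finrank K8 (LinearMap.range (N * P).mulVecLin) = 0
      rw [hr, ← h5, finrank_bot]
    omega
  have h3 := mat_pow_eq_zero hnil hle
  rw [show 2 + 1 = 3 from rfl, hNP.mul_pow, show P ^ 3 = P by rw [pow_succ, pow_two, hPP, hPP],
    hN, pow_succ, pow_two, sq_add_one] at h3
  have hred : ∀ k, rho (g ^ (k + 12)) = rho (g ^ k) := fun k => by
    rw [pow_add, orderOf_dvd_iff_pow_eq_one.mp (show orderOf g ∣ 12 by rw [ho]), mul_one]
  rw [← h3, S, hP, hU, hH]
  simp only [Finset.sum_range_succ, Finset.sum_range_zero, mul_add, add_mul, mul_one, one_mul,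
    ← map_mul, ← pow_add, pow_zero, pow_one, map_one, zero_add, Nat.reduceAdd, Nat.reduceMul,
    hred 1, hred 2, hred 5, show rho (g ^ 12) = 1 by simpa using hred 0,
    show rho (g ^ 13) = rho g by simpa using hred 1, show rho (g ^ 14) = rho (g ^ 2) by simpa using hred 2,
    show rho (g ^ 17) = rho (g ^ 5) by simpa using hred 5]
  abel

/-- The alternative. -/
theorem key (g : Gp) : S (orderOf g) g = 0 ∨ ∃ g' : Gp, orderOf g' = 2 * orderOf g := by
  have hcard : orderOf g ∣ 2 ^ 12 * 3 ^ 4 * 7 ^ 2 * 13 := card_Gp ▸ orderOf_dvd_natCard g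
  have hpos := orderOf_pos g
  have red : ∀ m : ℕ, m ∣ orderOf g → (∀ h : Gp, orderOf h = m → S m h = 0) →
      S (orderOf g) g = 0 := by
    intro m hm hz
    obtain ⟨d, hd⟩ := hm
    have hd0 : 0 < d := by rcases Nat.eq_zero_or_pos d with rfl | h <;> simp_all
    have ho : orderOf (g ^ d) = m := by
      rw [orderOf_pow' g hd0.ne', Nat.gcd_eq_right ⟨m, by rw [hd, mul_comm]⟩, hd,
        Nat.mul_div_cancel _ hd0]
    rw [hd, mul_comm, S_mul, hz _ ho, zero_mul]
  by_cases h13 : 13 ∣ orderOf g
  · exact Or.inl (red 13 h13 fun h => S_thirteen)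
  by_cases h9 : 9 ∣ orderOf g
  · exact Or.inl (red 9 h9 fun h => S_nine)
  by_cases h7 : 7 ∣ orderOf g
  · obtain ⟨d, hd⟩ := h7
    have hd0 : 0 < d := by rcases Nat.eq_zero_or_pos d with rfl | h <;> simp_all
    have ho : orderOf (g ^ d) = 7 := by
      rw [orderOf_pow' g hd0.ne', Nat.gcd_eq_right ⟨7, by rw [hd, mul_comm]⟩, hd,
        Nat.mul_div_cancel _ hd0]
    rcases seven_dichotomy ((Commute.refl g).pow_right d) ho with h | h
    · left; rw [hd, mul_comm, S_mul, h, zero_mul]
    · right
      have h14 : 7 * d ∣ 7 * 2 := hd ▸ orderOf_dvd_of_pow_eq_one h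
      have hd2 : d ∣ 2 := Nat.dvd_of_mul_dvd_mul_left (by norm_num) h14
      rcases (Nat.dvd_prime Nat.prime_two).mp hd2 with rfl | rfl <;> rw [hd] <;>
        exact exists_order_of_mem (by decide +kernel)
  by_cases h8 : 8 ∣ orderOf g
  · exact Or.inl (red 8 h8 fun h => S_eight)
  have h12 : orderOf g ∣ 12 := by
    have hm : orderOf g ∣ 2 ^ 12 * 3 ^ 4 := by
      have c7 : Nat.Coprime (orderOf g) (7 ^ 2) :=
        Nat.Coprime.pow_right _ (((by norm_num : Nat.Prime 7).coprime_iff_not_dvd.mpr h7).symm)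
      have c13 : Nat.Coprime (orderOf g) 13 :=
        ((by norm_num : Nat.Prime 13).coprime_iff_not_dvd.mpr h13).symm
      exact c7.dvd_of_dvd_mul_right (c13.dvd_of_dvd_mul_right hcard)
    obtain ⟨x, y, hx, hy, hab⟩ := Nat.dvd_mul.mp hm
    obtain ⟨a, -, rfl⟩ := (Nat.dvd_prime_pow Nat.prime_two).mp hx
    obtain ⟨b, -, rfl⟩ := (Nat.dvd_prime_pow Nat.prime_three).mp hy
    rw [← hab]
    have ha2 : a ≤ 2 := by
      by_contra hlt
      exact h8 (hab ▸ Dvd.dvd.mul_right (pow_dvd_pow 2 (show 3 ≤ a by omega)) _)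
    have hb1 : b ≤ 1 := by
      by_contra hlt
      exact h9 (hab ▸ Dvd.dvd.mul_left (pow_dvd_pow 3 (show 2 ≤ b by omega)) _)
    exact Nat.mul_dvd_mul (pow_dvd_pow 2 ha2) (pow_dvd_pow 3 hb1)
  have hmem : ∀ n ∈ Nat.divisors 12, n = 12 ∨ 2 * n ∈ expows.map Prod.fst := by decide +kernel
  rcases hmem _ (Nat.mem_divisors.mpr ⟨h12, by norm_num⟩) with h | h
  · exact Or.inl (h ▸ S_twelve h)
  · exact Or.inr (exists_order_of_mem h)

end Cfsg.Agent.Lib.Trial3D4
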