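import Cfsg.Agent.Lib.Trial3D4.Sylow

/-!
# Elements of order 13, 9, 3 and 7 on the natural module
-/

set_option autoImplicit false
set_option maxRecDepth 100000

namespace Cfsg.Agent.Lib.Trial3D4

open Cfsg.Agent.Lib.Sz8 Cfsg.Agent.Lib.ChevClassical
open scoped Matrix

/-- A power table of an element of order 13. -/
def pow13 : List ℕ := ((expows.filter fun p => p.1 == 13).headD (0, [])).2

/-- The codes summed for a power of the element. -/
def sumList (l : List ℕ) (n : ℕ) : List ℕ := (List.range n).map fun i => get (l.getD i 0)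

theorem check13 : (chPow pow13 && Nat.blt (pow13.getD 1 0) size && Nat.beq pow13.length 14 &&
    Nat.beq (pow13.getD 13 0) oneIx &&
    (List.range 13).all fun j => Nat.beq j 0 || (chNe (pow13.getD j 0) oneIx &&
      chZero ((List.range 13).map fun i => get (pow13.getD (j * i % 13) 0)))) = true := by
  decide +kernel

theorem S_thirteen {h : Gp} (ho : orderOf h = 13) : S 13 h = 0 := by
  have hc := check13
  simp only [Bool.and_eq_true, Bool.or_eq_true, List.all_eq_true, List.mem_range, Nat.blt_eq] at hc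
  obtain ⟨⟨⟨⟨hp, hm⟩, hlen⟩, hone⟩, hz⟩ := hc
  have hlen' := Nat.eq_of_beq_eq_true hlen
  obtain ⟨x, hx⟩ := el_mem _ hm
  have hpow := rho_pow hp hx
  have hx13 : x ^ 13 = 1 := rho_inj (by
    rw [hpow 13 (by omega), Nat.eq_of_beq_eq_true hone, one_el, map_one])
  haveI : Fact (Nat.Prime 13) := ⟨by norm_num⟩
  have hx1 : x ≠ 1 := fun he => by
    rcases hz 1 (by norm_num) with h | h
    · exact absurd (Nat.eq_of_beq_eq_true h) (by norm_num)
    · exact el_ne h.1 (by rw [← hx, he, map_one, one_el])
  have hox : orderOf x = 13 := orderOf_eq_prime hx13 hx1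
  obtain ⟨c, hc'⟩ := conj_mem (p := 13) (k := 1) (Subgroup.zpowers x)
    (by rw [Nat.card_zpowers, hox, factorization_card]; decide +kernel) (h := h) (by rw [ho, pow_one])
  obtain ⟨j, hj, hxj⟩ : ∃ j < 13, x ^ j = c * h * c⁻¹ := by
    obtain ⟨j, hj⟩ := (isOfFinOrder_of_finite x).mem_powers_iff_mem_zpowers.mpr hc'
    exact ⟨j % 13, Nat.mod_lt _ (by norm_num), by rw [← hox, pow_mod_orderOf]; exact hj⟩
  refine S_eq_zero_of_conj (c := c) ?_
  rcases hz j hj with h0 | h0
  · rw [Nat.eq_of_beq_eq_true h0, pow_zero, eq_comm, conj_eq_one_iff] at hxj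
    rw [hxj, orderOf_one] at ho
    exact absurd ho (by norm_num)
  · rw [S_eq_list 13 _ (fun i => pow13.getD (j * i % 13) 0) fun i hi => by
      rw [← hxj, ← pow_mul, ← hox, ← pow_mod_orderOf, hox, hpow _ (by
        have := Nat.mod_lt (j * i) (show 13 > 0 by norm_num); omega)]]
    exact sum_eq_zero h0.2

/-- Product check against a sum, with half of the inner columns empty. -/
def chFac (A B : ℕ) (l : List ℕ) : Bool :=
  (idx8.all fun i => idx8.all fun j => Nat.blt j 4 || Nat.beq (ent A i j) 0) &&
  idx8.all fun i => idx8.all fun j => Nat.beq (sumE l i j % 8) (dot A B i j % 8)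

theorem rank_sum_le {A B : ℕ} {l : List ℕ} (h : chFac A B l = true) :
    (l.map toMat).sum.rank ≤ 4 := by
  simp only [chFac, Bool.and_eq_true, List.all_eq_true, Bool.or_eq_true, Nat.blt_eq] at h
  have e : (l.map toMat).sum =
      (toMat A).submatrix id Sum.inl * (toMat B).submatrix Sum.inl id := by
    funext a b
    have h' := Nat.eq_of_beq_eq_true (h.2 _ (rk_mem a) _ (rk_mem b))
    rw [toMat_sum, Matrix.mul_apply, kE_congr h']
    have h1 : toMat A * toMat B = Matrix.of fun a b => kE (dot A B (D4.rk a) (D4.rk b)) := by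
      funext a b
      rw [Matrix.mul_apply, Fintype.sum_sum_type, Fin.sum_univ_four, Fin.sum_univ_four]
      simp only [toMat, Matrix.of_apply, kE_mul, kE_add]
      rfl
    have h2 := congrFun (congrFun h1 a) b
    rw [Matrix.mul_apply, Fintype.sum_sum_type, Matrix.of_apply] at h2
    rw [← h2, Finset.sum_eq_zero (s := (Finset.univ : Finset (Fin 4)))
      (f := fun x => toMat A a (Sum.inr x) * toMat B (Sum.inr x) b), add_zero]
    · rfl
    · intro x _
      rcases h.1 _ (rk_mem a) _ (rk_mem (Sum.inr x)) with hlt | h0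
      · simp only [D4.rk] at hlt; omega
      · simp only [toMat, Matrix.of_apply, Nat.eq_of_beq_eq_true h0]
        exact zero_mul _
  rw [e]
  exact (Matrix.rank_mul_le_left _ _).trans ((Matrix.rank_le_card_width _).trans (by simp))

theorem check3 : (List.range list3.length).all (fun i =>
    chPow (pow3.getD i []) && Nat.beq (pow3.getD i []).length 10 &&
    Nat.beq ((pow3.getD i []).getD 1 0) (list3.getD i 0) &&
    (Nat.beq ((pow3.getD i []).getD 3 0) oneIx || chZero (sumList (pow3.getD i []) 9)) &&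
    (Nat.beq i 0 || !Nat.beq ((pow3.getD i []).getD 3 0) oneIx ||
      chFac (fac3.getD i (0, 0)).1 (fac3.getD i (0, 0)).2 (sumList (pow3.getD i []) 3))) = true := by
  decide +kernel

theorem check3' {i : ℕ} (hi : i < list3.length) {y : Gp} (hy : rho y = el (list3.getD i 0)) :
    (y ^ 3 ≠ 1 → S 9 y = 0) ∧ (y ≠ 1 → y ^ 3 = 1 → (S 3 y).rank ≤ 4) := by
  have hc := List.all_eq_true.mp check3 i (List.mem_range.mpr hi)
  simp only [Bool.and_eq_true, Bool.or_eq_true] at hc
  obtain ⟨⟨⟨⟨hp, hlen⟩, hfst⟩, h9⟩, h3⟩ := hc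
  have hlen' := Nat.eq_of_beq_eq_true hlen
  rw [← Nat.eq_of_beq_eq_true hfst] at hy
  have hpow := rho_pow hp hy
  refine ⟨fun hne => ?_, fun hne hy3 => ?_⟩
  · rcases h9 with h | h
    · exact absurd (rho_inj (by rw [hpow 3 (by omega), Nat.eq_of_beq_eq_true h, one_el, map_one])) hne
    · rw [S_eq_list 9 y (fun k => (pow3.getD i []).getD k 0) fun k hk => hpow k (by omega)]
      exact sum_eq_zero h
  · rcases h3 with (h | h) | h
    · refine absurd (rho_inj ?_) hne
      rw [hy, Nat.eq_of_beq_eq_true hfst, Nat.eq_of_beq_eq_true h,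
        show list3.getD 0 0 = oneIx by decide +kernel, one_el, map_one]
    · exfalso
      have he : ((pow3.getD i []).getD 3 0) ≠ oneIx := fun he => by
        rw [he] at h; simp at h
      have hlist : ∀ k < list3.length, (pow3.getD k []).getD 3 0 = oneIx ∨
          chNe ((pow3.getD k []).getD 3 0) oneIx = true := by decide +kernel
      rcases hlist i hi with h' | h'
      · exact he h'
      · exact el_ne h' (by rw [← hpow 3 (by omega), hy3, map_one, one_el])
    · rw [S_eq_list 3 y (fun k => (pow3.getD i []).getD k 0) fun k hk => hpow k (by omega)]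
      exact rank_sum_le h

theorem S_nine {h : Gp} (ho : orderOf h = 9) : S 9 h = 0 := by
  obtain ⟨c, i, hi, hc⟩ := conj_three (k := 2) (h := h) (by rw [ho]; norm_num)
  refine S_eq_zero_of_conj (c := c) ((check3' hi hc).1 fun he => ?_)
  rw [conj_pow, conj_eq_one_iff] at he
  have := orderOf_dvd_of_pow_eq_one he
  rw [ho] at this
  norm_num at this

theorem rank_S_three {h : Gp} (ho : orderOf h = 3) : (S 3 h).rank ≤ 4 := by
  obtain ⟨c, i, hi, hc⟩ := conj_three (k := 1) (h := h) (by rw [ho]; norm_num)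
  have h1 : h = c⁻¹ * (c * h * c⁻¹) * c⁻¹⁻¹ := by group
  rw [h1, S_conj]
  refine (Matrix.rank_mul_le_left _ _).trans ((Matrix.rank_mul_le_right _ _).trans ?_)
  refine (check3' hi hc).2 (fun he => ?_) ?_
  · rw [conj_eq_one_iff] at he
    rw [he, orderOf_one] at ho
    exact absurd ho (by norm_num)
  · rw [conj_pow, ← ho, pow_orderOf_eq_one, mul_one, mul_inv_cancel]

end Cfsg.Agent.Lib.Trial3D4
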