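import Cfsg.Agent.Lib.Trial3D4.Key
import Cfsg.Agent.Lib.G24.Transport

/-!
# Unboundedly many groups with the element orders of `³D₄(2)`
-/

set_option autoImplicit false
set_option maxRecDepth 100000

namespace Cfsg.Agent.Lib.Trial3D4

open Cfsg.Lie Cfsg.Agent.Lib.Sz8
open scoped Matrix

/-- Copies of the natural module. -/
abbrev W (k : ℕ) : Type := Multiplicative (Fin k → I → K8)

/-- The action on copies of the natural module. -/
def phi (k : ℕ) : Gp →* MulAut (W k) where
  toFun g :=
    { toFun := fun v => Multiplicative.ofAdd fun i => rho g *ᵥ Multiplicative.toAdd v i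
      invFun := fun v => Multiplicative.ofAdd fun i => rho g⁻¹ *ᵥ Multiplicative.toAdd v i
      left_inv := fun v => by
        apply Multiplicative.toAdd.injective
        funext i
        simp [Matrix.mulVec_mulVec, ← map_mul]
      right_inv := fun v => by
        apply Multiplicative.toAdd.injective
        funext i
        simp [Matrix.mulVec_mulVec, ← map_mul]
      map_mul' := fun v w => by
        apply Multiplicative.toAdd.injective
        funext i
        simp [Matrix.mulVec_add] }
  map_one' := MulEquiv.ext fun v => by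
    apply Multiplicative.toAdd.injective
    funext i
    simp
  map_mul' g h := MulEquiv.ext fun v => by
    apply Multiplicative.toAdd.injective
    funext i
    simp [Matrix.mulVec_mulVec]

/-- The split extension. -/
abbrev Ext (k : ℕ) : Type := W k ⋊[phi k] Gp

theorem pow_ext {k : ℕ} (x : Ext k) (m : ℕ) :
    (x ^ m).left = Multiplicative.ofAdd (fun i => S m x.right *ᵥ Multiplicative.toAdd x.left i) ∧
      (x ^ m).right = x.right ^ m := by
  induction m with
  | zero =>
    refine ⟨?_, rfl⟩
    apply Multiplicative.toAdd.injective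
    funext i
    simp [S]
  | succ m ih =>
    rw [pow_succ, SemidirectProduct.mul_left, SemidirectProduct.mul_right, ih.1, ih.2, ← pow_succ]
    refine ⟨?_, rfl⟩
    apply Multiplicative.toAdd.injective
    funext i
    simp [phi, S, Finset.sum_range_succ, Matrix.add_mulVec]

theorem range_orderOf_ext (k : ℕ) :
    Set.range (orderOf : Ext k → ℕ) = Set.range (orderOf : Gp → ℕ) := by
  refine Set.Subset.antisymm ?_ ?_
  · rintro _ ⟨x, rfl⟩
    have hn : orderOf x.right ∣ orderOf x :=
      orderOf_map_dvd SemidirectProduct.rightHom x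
    have hr : (x ^ orderOf x.right).right = 1 := by rw [(pow_ext x _).2, pow_orderOf_eq_one]
    by_cases h1 : x ^ orderOf x.right = 1
    · exact ⟨x.right, Nat.dvd_antisymm hn (orderOf_dvd_of_pow_eq_one h1)⟩
    have h2 : x ^ (2 * orderOf x.right) = 1 := by
      rw [two_mul, pow_add]
      refine SemidirectProduct.ext ?_ ?_
      · rw [SemidirectProduct.mul_left, hr, map_one]
        show (x ^ orderOf x.right).left * (x ^ orderOf x.right).left = 1
        apply Multiplicative.toAdd.injective
        funext i a
        exact CharTwo.add_self_eq_zero _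
      · rw [SemidirectProduct.mul_right, hr, one_mul]; rfl
    rcases key x.right with hS | ⟨g', hg'⟩
    · refine absurd (SemidirectProduct.ext ?_ ?_) h1
      · rw [(pow_ext x _).1, hS]
        apply Multiplicative.toAdd.injective
        funext i
        simp
      · rw [hr]; rfl
    refine ⟨g', hg'.trans ?_⟩
    obtain ⟨d, hd⟩ := hn
    have hdvd : orderOf x.right * d ∣ orderOf x.right * 2 := by
      rw [← hd, mul_comm]; exact orderOf_dvd_of_pow_eq_one h2
    rcases (Nat.dvd_prime Nat.prime_two).mp
      (Nat.dvd_of_mul_dvd_mul_left (orderOf_pos x.right) hdvd) with rfl | rfl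
    · exact absurd (by rw [mul_one] at hd; rw [← hd, pow_orderOf_eq_one]) h1
    · rw [hd, mul_comm]
  · rintro _ ⟨g, rfl⟩
    exact ⟨SemidirectProduct.inr g,
      orderOf_injective _ SemidirectProduct.inr_injective g⟩

variable {F : Type*} [Field F] {K : Type*} [Field K]

theorem map_twisted (f : F ≃+* K) (q : ℕ) :
    (twistedD4 F q).map (Matrix.GeneralLinearGroup.map (f : F →+* K)) = twistedD4 K q := by
  have hx : ∀ (r : ℕ) (t : F), (chevD4.x F r t).map f = chevD4.x K r (f t) := by
    intro r t
    unfold ChevalleyDatum.x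
    split_ifs with h
    · exact G24.Transport.xMat_map chevD4 f _ t
    · exact map_one ((f : F →+* K).mapMatrix)
  have hw : ∀ w : List (ℕ × F), (chevD4.wordMat F w).map f =
      chevD4.wordMat K (w.map fun p => (p.1, f p.2)) := by
    intro w
    show (f : F →+* K).mapMatrix _ = _
    rw [ChevalleyDatum.wordMat, map_list_prod, ChevalleyDatum.wordMat, List.map_map, List.map_map]
    exact congrArg List.prod (List.map_congr_left fun p _ => hx p.1 p.2)
  rw [twistedD4, twistedD4, ChevalleyDatum.genSubgroup, MonoidHom.map_closure,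
    ChevalleyDatum.genSubgroup]
  refine congrArg Subgroup.closure (Set.ext fun x => ⟨?_, ?_⟩)
  · rintro ⟨g, ⟨w, hwS, hg⟩, rfl⟩
    refine ⟨w.map fun p => (p.1, f p.2), ?_, ?_⟩
    · rcases hwS with ⟨t, ht, r, hr, rfl⟩ | ⟨t, rs, hr, rfl⟩
      · exact Or.inl ⟨f t, by rw [← map_pow, ht], r, hr, rfl⟩
      · exact Or.inr ⟨f t, rs, hr, by simp [map_pow]⟩
    · show ((g : Matrix chevD4.Idx chevD4.Idx F)).map f = _
      rw [hg, hw]
  · rintro ⟨w, hwS, hx'⟩
    refine ⟨Matrix.GeneralLinearGroup.map (f.symm : K →+* F) x,
      ⟨w.map fun p => (p.1, f.symm p.2), ?_, ?_⟩, ?_⟩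
    · rcases hwS with ⟨t, ht, r, hr, rfl⟩ | ⟨t, rs, hr, rfl⟩
      · exact Or.inl ⟨f.symm t, by rw [← map_pow, ht], r, hr, rfl⟩
      · exact Or.inr ⟨f.symm t, rs, hr, by simp [map_pow]⟩
    · show ((x : Matrix chevD4.Idx chevD4.Idx K)).map f.symm = _
      apply Matrix.map_injective f.injective
      show ((x : Matrix chevD4.Idx chevD4.Idx K).map f.symm).map f = (chevD4.wordMat F _).map f
      rw [hw, List.map_map, Matrix.map_map, hx']
      simp [Function.comp_def, Matrix.map]
      rfl
    · ext i j
      simp

theorem main [Fintype K] (hK : Fintype.card K = 8) (N : ℕ) :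
    ∃ (H : Type) (_ : Group H) (_ : Fintype H), N < Fintype.card H ∧
      Set.range (orderOf : H → ℕ) = Set.range (orderOf : twistedD4 K 2 → ℕ) := by
  have f : K8 ≃+* K := FiniteField.ringEquivOfCardEq (by rw [card_k8, hK])
  let E : Gp ≃* twistedD4 K 2 := equivTwisted.trans
    (((twistedD4 K8 2).equivMapOfInjective (Matrix.GeneralLinearGroup.map (f : K8 →+* K))
      (fun a b h => by
        ext i j
        exact f.injective (congrFun (congrFun (congrArg (fun g : GL chevD4.Idx K => (g : Matrix chevD4.Idx chevD4.Idx K)) h) i) j))).trans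
      (MulEquiv.subgroupCongr (map_twisted f 2)))
  haveI : Fintype (Ext N) := Fintype.ofEquiv _ SemidirectProduct.equivProd.symm
  refine ⟨Ext N, inferInstance, inferInstance, ?_, ?_⟩
  · rw [Fintype.card_eq_nat_card, SemidirectProduct.card]
    refine lt_of_lt_of_le ?_ (Nat.le_mul_of_pos_right _ Nat.card_pos)
    rw [Nat.card_congr Multiplicative.toAdd, Nat.card_fun, Nat.card_fin]
    exact Nat.lt_pow_self (by rw [Nat.card_fun, Nat.card_eq_fintype_card, Nat.card_eq_fintype_card, card_k8]; decide)
  · rw [range_orderOf_ext]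
    ext n
    constructor
    · rintro ⟨g, rfl⟩; exact ⟨E g, E.orderOf_eq g⟩
    · rintro ⟨g, rfl⟩; exact ⟨E.symm g, E.symm.orderOf_eq g⟩

end Cfsg.Agent.Lib.Trial3D4
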