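import Cfsg.Agent.Lib.Trial3D4.Group

/-!
# Cyclic subgroups and Sylow subgroups of `³D₄(2)` from tables
-/

set_option autoImplicit false
set_option maxRecDepth 100000

namespace Cfsg.Agent.Lib.Trial3D4

open Cfsg.Agent.Lib.Sz8

/-- The number of table entries. -/
def size : ℕ := 16 + ops.length

/-- A power table. -/
def chPow (l : List ℕ) : Bool :=
  Nat.beq (l.getD 0 0) oneIx && (List.range (l.length - 1)).all fun i =>
    chI (l.getD i 0) (l.getD 1 0) (l.getD (i + 1) 0)

theorem rho_pow {l : List ℕ} (h : chPow l = true) {g : Gp} (hg : rho g = el (l.getD 1 0)) :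
    ∀ i < l.length, rho (g ^ i) = el (l.getD i 0) := by
  simp only [chPow, Bool.and_eq_true, List.all_eq_true, List.mem_range] at h
  intro i
  induction i with
  | zero => intro _; rw [pow_zero, map_one, Nat.eq_of_beq_eq_true h.1, one_el]
  | succ i ih =>
    intro hi
    rw [pow_succ, map_mul, ih (by omega), hg, el_mul (h.2 i (by omega))]

/-- The sum of the first powers. -/
def S (n : ℕ) (g : Gp) : Matrix I I K8 := ∑ i ∈ Finset.range n, rho (g ^ i)

theorem S_eq_list (n : ℕ) (g : Gp) (f : ℕ → ℕ) (h : ∀ i < n, rho (g ^ i) = el (f i)) :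
    S n g = (((List.range n).map fun i => get (f i)).map toMat).sum := by
  induction n with
  | zero => rfl
  | succ n ih =>
    rw [S, Finset.sum_range_succ, ← S, ih fun i hi => h i (by omega), h n (by omega),
      List.range_succ, List.map_append, List.map_append, List.sum_append, List.map_singleton,
      List.map_singleton, List.sum_singleton]
    rfl

theorem S_conj (n : ℕ) (c h : Gp) : S n (c * h * c⁻¹) = rho c * S n h * rho c⁻¹ := by
  simp only [S, Finset.mul_sum, Finset.sum_mul]
  exact Finset.sum_congr rfl fun i _ => by rw [conj_pow, map_mul, map_mul]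

theorem S_eq_zero_of_conj {n : ℕ} {c h : Gp} (hz : S n (c * h * c⁻¹) = 0) : S n h = 0 := by
  have h1 : h = c⁻¹ * (c * h * c⁻¹) * c⁻¹⁻¹ := by group
  rw [h1, S_conj, hz, mul_zero, zero_mul]

theorem exists_order {n : ℕ} (l : List ℕ) (hl : chPow l = true) (hm : l.getD 1 0 < size)
    (hn : 0 < n) (hlen : n < l.length) (hone : l.getD n 0 = oneIx)
    (hne : ∀ i < n, 0 < i → chNe (l.getD i 0) oneIx = true) : ∃ g : Gp, orderOf g = n := by
  obtain ⟨g, hg⟩ := el_mem _ hm
  refine ⟨g, (orderOf_eq_iff hn).mpr ⟨rho_inj ?_, fun i hi h0 he => ?_⟩⟩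
  · rw [rho_pow hl hg n hlen, hone, one_el, map_one]
  · refine el_ne (hne i hi h0) ?_
    rw [← rho_pow hl hg i (by omega), he, map_one, one_el]

theorem expows_check : expows.all (fun p =>
    chPow p.2 && Nat.blt (p.2.getD 1 0) size && Nat.blt 0 p.1 && Nat.blt p.1 p.2.length &&
      Nat.beq (p.2.getD p.1 0) oneIx &&
      (List.range p.1).all fun i => Nat.beq i 0 || chNe (p.2.getD i 0) oneIx) = true := by
  decide +kernel

theorem exists_order_of_mem {n : ℕ} (h : n ∈ expows.map Prod.fst) : ∃ g : Gp, orderOf g = n := by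
  obtain ⟨⟨m, l⟩, hm, rfl⟩ := List.mem_map.mp h
  have hc := List.all_eq_true.mp expows_check _ hm
  simp only [Bool.and_eq_true, Nat.blt_eq, List.all_eq_true, List.mem_range, Bool.or_eq_true] at hc
  obtain ⟨⟨⟨⟨⟨h1, h2⟩, h3⟩, h4⟩, h5⟩, h6⟩ := hc
  refine exists_order l h1 h2 h3 h4 (Nat.eq_of_beq_eq_true h5) fun i hi h0 => ?_
  rcases h6 i hi with h | h
  · exact absurd (Nat.eq_of_beq_eq_true h) (by omega)
  · exact h

/-- A table of a subgroup. -/
def chTab (gens L : List ℕ) (tab : List (List ℕ)) (par : List (ℕ × ℕ)) : Bool :=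
  (gens.all fun k => Nat.blt k size) && (L.all fun k => Nat.blt k size) &&
  Nat.beq (L.getD 0 0) oneIx &&
  ((List.range L.length).all fun i => (List.range gens.length).all fun k =>
    Nat.blt ((tab.getD i []).getD k 0) L.length &&
      chI (L.getD i 0) (gens.getD k 0) (L.getD ((tab.getD i []).getD k 0) 0)) &&
  ((List.range L.length).all fun i => Nat.beq i 0 ||
    (Nat.blt (par.getD i (0, 0)).1 i && Nat.blt (par.getD i (0, 0)).2 gens.length &&
      chI (L.getD (par.getD i (0, 0)).1 0) (gens.getD (par.getD i (0, 0)).2 0) (L.getD i 0))) &&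
  ((List.range L.length).all fun j => (List.range j).all fun i =>
    chNe (L.getD i 0) (L.getD j 0))

theorem exists_subgroup {gens L : List ℕ} {tab : List (List ℕ)} {par : List (ℕ × ℕ)}
    (hc : chTab gens L tab par = true) (hpos : 0 < L.length) :
    ∃ P : Subgroup Gp, Nat.card P = L.length ∧
      ∀ g : Gp, g ∈ P → ∃ i < L.length, rho g = el (L.getD i 0) := by
  simp only [chTab, Bool.and_eq_true, List.all_eq_true, List.mem_range, Bool.or_eq_true,
    Nat.blt_eq] at hc
  obtain ⟨⟨⟨⟨⟨hg, hL⟩, h0⟩, htab⟩, hpar⟩, hne⟩ := hc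
  have h0' : L.getD 0 0 = oneIx := Nat.eq_of_beq_eq_true h0
  let T : Set Gp := {g | ∃ i < L.length, rho g = el (L.getD i 0)}
  have hone : (1 : Gp) ∈ T := ⟨0, hpos, by rw [h0', one_el, map_one]⟩
  have hstep : ∀ a ∈ T, ∀ i < L.length, ∀ b : Gp, rho b = el (L.getD i 0) → a * b ∈ T := by
    intro a ha i
    induction i using Nat.strong_induction_on with
    | _ i ih =>
      intro hi b hb
      rcases Nat.eq_zero_or_pos i with rfl | hi0
      · have : b = 1 := rho_inj (by rw [hb, h0', one_el, map_one])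
        rwa [this, mul_one]
      · rcases hpar i hi with h | h
        · exact absurd (Nat.eq_of_beq_eq_true h) (by omega)
        obtain ⟨⟨hj, hk⟩, hch⟩ := h
        obtain ⟨x, hx⟩ := el_mem (L.getD (par.getD i (0, 0)).1 0)
          (hL _ (by rw [List.getD_eq_getElem _ _ (by omega)]; exact List.getElem_mem _))
        obtain ⟨y, hy⟩ := el_mem (gens.getD (par.getD i (0, 0)).2 0)
          (hg _ (by rw [List.getD_eq_getElem _ _ hk]; exact List.getElem_mem _))
        have hbxy : b = x * y := rho_inj (by rw [map_mul, hx, hy, el_mul hch, hb])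
        obtain ⟨m, hm, hax⟩ := ih _ hj (by omega) x hx
        obtain ⟨ht, hch'⟩ := htab m hm _ hk
        exact ⟨_, ht, by rw [hbxy, ← mul_assoc, map_mul, hax, hy, el_mul hch']⟩
  have hmul : ∀ a ∈ T, ∀ b ∈ T, a * b ∈ T := fun a ha b ⟨i, hi, hb⟩ => hstep a ha i hi b hb
  let P : Subgroup Gp :=
    { carrier := T
      one_mem' := hone
      mul_mem' := fun {a b} ha hb => hmul a ha b hb
      inv_mem' := fun {a} ha => by
        have hp : ∀ k : ℕ, a ^ k ∈ T := fun k => by
          induction k with
          | zero => exact hone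
          | succ k ih => rw [pow_succ]; exact hmul _ ih _ ha
        have : a⁻¹ = a ^ (orderOf a - 1) := by
          refine inv_eq_of_mul_eq_one_right ?_
          rw [← pow_succ', Nat.sub_add_cancel (orderOf_pos a), pow_orderOf_eq_one]
        rw [this]; exact hp _ }
  refine ⟨P, ?_, fun g h => h⟩
  have hmem : ∀ i : Fin L.length, ∃ g : Gp, rho g = el (L.getD i.val 0) := fun i =>
    el_mem _ (hL _ (by rw [List.getD_eq_getElem _ _ i.isLt]; exact List.getElem_mem _))
  choose f hf using hmem
  rw [← Nat.card_fin L.length]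
  refine (Nat.card_congr (Equiv.ofBijective (fun i => (⟨f i, i.val, i.isLt, hf i⟩ : P)) ⟨?_, ?_⟩)).symm
  · intro i j h
    have h' : f i = f j := congrArg Subtype.val h
    have he : el (L.getD i.val 0) = el (L.getD j.val 0) := by rw [← hf i, ← hf j, h']
    rcases Nat.lt_trichotomy i.val j.val with hlt | heq | hlt
    · exact absurd he (el_ne (hne _ j.isLt _ hlt))
    · exact Fin.ext heq
    · exact absurd he.symm (el_ne (hne _ i.isLt _ hlt))
  · rintro ⟨g, i, hi, hgi⟩
    exact ⟨⟨i, hi⟩, Subtype.ext (rho_inj ((hf ⟨i, hi⟩).trans hgi.symm))⟩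

theorem tab7_check : chTab gens7 list7 tab7 par7 = true := by decide +kernel

theorem tab3_check : chTab gens3 list3 tab3 par3 = true := by decide +kernel

/-- An element of prime power order lands in a given Sylow subgroup after conjugation. -/
theorem conj_mem {p k : ℕ} [Fact p.Prime] (P : Subgroup Gp)
    (hP : Nat.card P = p ^ (Nat.card Gp).factorization p) {h : Gp} (ho : orderOf h = p ^ k) :
    ∃ c : Gp, c * h * c⁻¹ ∈ P := by
  have hz : IsPGroup p (Subgroup.zpowers h) :=
    IsPGroup.of_card (n := k) (by rw [Nat.card_zpowers, ho])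
  obtain ⟨Q, hQ⟩ := hz.exists_le_sylow
  obtain ⟨c, hc⟩ := MulAction.exists_smul_eq Gp Q (Sylow.ofCard P hP)
  refine ⟨c, ?_⟩
  have h1 : MulAut.conj c h ∈ c • Q :=
    Subgroup.smul_mem_pointwise_smul h (MulAut.conj c) Q.1 (hQ (Subgroup.mem_zpowers h))
  rwa [hc] at h1

theorem factorization_card (p : ℕ) :
    (Nat.card Gp).factorization p = (if p = 2 then 12 else 0) + (if p = 3 then 4 else 0) +
      (if p = 7 then 2 else 0) + (if p = 13 then 1 else 0) := by
  rw [card_Gp, Nat.factorization_mul (by norm_num) (by norm_num),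
    Nat.factorization_mul (by norm_num) (by norm_num),
    Nat.factorization_mul (by norm_num) (by norm_num), Nat.prime_two.factorization_pow,
    Nat.prime_three.factorization_pow, (by norm_num : Nat.Prime 7).factorization_pow,
    (by norm_num : Nat.Prime 13).factorization]
  simp [Finsupp.single_apply, eq_comm]

theorem conj_seven {k : ℕ} {h : Gp} (ho : orderOf h = 7 ^ k) :
    ∃ c : Gp, ∃ i < list7.length, rho (c * h * c⁻¹) = el (list7.getD i 0) := by
  haveI : Fact (Nat.Prime 7) := ⟨by norm_num⟩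
  obtain ⟨P, hP, hmem⟩ := exists_subgroup tab7_check (by decide +kernel)
  obtain ⟨c, hc⟩ := conj_mem P (by rw [hP, factorization_card]; decide +kernel) ho
  exact ⟨c, hmem _ hc⟩

theorem conj_three {k : ℕ} {h : Gp} (ho : orderOf h = 3 ^ k) :
    ∃ c : Gp, ∃ i < list3.length, rho (c * h * c⁻¹) = el (list3.getD i 0) := by
  haveI : Fact (Nat.Prime 3) := ⟨by norm_num⟩
  obtain ⟨P, hP, hmem⟩ := exists_subgroup tab3_check (by decide +kernel)
  obtain ⟨c, hc⟩ := conj_mem P (by rw [hP, factorization_card]; decide +kernel) ho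
  exact ⟨c, hmem _ hc⟩

end Cfsg.Agent.Lib.Trial3D4
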